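import Groth.Agent.TauSet.Basic
import Groth.Agent.GrpAct.OrbitSmooth
import Groth.Agent.GrpField.Descent
import Groth.Agent.InfLift.SchemeSmallExt
import Groth.Prelude.Def_AutSch
/-!
Torsion points surject onto the component group of a commutative algebraic group.
-/
set_option autoImplicit false
set_option linter.style.haveILetI false
set_option backward.isDefEq.respectTransparency false
set_option backward.isDefEq.respectTransparency.types false
universe u
open CategoryTheory CategoryTheory.Limits MonoidalCategory CartesianMonoidalCategory MonObj AlgebraicGeometry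
open TopologicalSpace Topology

noncomputable section

namespace Groth.Agent.CompTors

variable {k : Type u} [Field k] (G : Over (Spec (CommRingCat.of k))) [GrpObj G]

/-- the point of a rational point -/
def ptk (a : 𝟙_ (Over (Spec (CommRingCat.of k))) ⟶ G) : G.left := a.left (IsLocalRing.closedPoint k)

/-- the power map -/
def pw (m : ℕ) : G ⟶ G := (𝟙 G : G ⟶ G) ^ m

theorem comp_pw {T : Over (Spec (CommRingCat.of k))} (a : T ⟶ G) (m : ℕ) : a ≫ pw G m = a ^ m := by
  induction m with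
  | zero => rw [pw, pow_zero, pow_zero, MonObj.comp_one]
  | succ m ih =>
    rw [pw] at ih
    rw [pw, pow_succ, pow_succ, MonObj.comp_mul, ih, Category.comp_id]

theorem ptk_pow (a : 𝟙_ (Over (Spec (CommRingCat.of k))) ⟶ G) (m : ℕ) : ptk G (a ^ m) = (pw G m).left (ptk G a) := by
  rw [← comp_pw]
  rfl

theorem neutralSet_eq : SGA3x.neutralSet G = connectedComponent (ptk G (1 : 𝟙_ (Over (Spec (CommRingCat.of k))) ⟶ G)) := by
  haveI : Subsingleton (Spec (CommRingCat.of k)) := inferInstanceAs (Subsingleton (PrimeSpectrum k))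
  ext v
  rw [GrpDim.neutralSet_iff, GrpDim.comp0,
    show G.hom.base ⁻¹' {G.hom v} = Set.univ from Set.eq_univ_of_forall fun w => Subsingleton.elim _ _,
    connectedComponentIn_univ]
  rw [show η[G].left (G.hom v) = ptk G 1 from ?_]
  rw [ptk, Hom.one_def]
  exact congrArg η[G].left (Subsingleton.elim (α := PrimeSpectrum k) _ _)

theorem one_mem : ptk G (1 : 𝟙_ (Over (Spec (CommRingCat.of k))) ⟶ G) ∈ SGA3x.neutralSet G := by
  rw [neutralSet_eq]; exact mem_connectedComponent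

theorem isClosed_neutralSet : IsClosed (SGA3x.neutralSet G) := by
  rw [neutralSet_eq]; exact isClosed_connectedComponent

variable [LocallyOfFiniteType G.hom]

theorem isIrreducible_neutralSet : IsIrreducible (SGA3x.neutralSet G) := by
  rw [neutralSet_eq]
  exact GrpDim.isIrreducible_connectedComponent G _

theorem isCompact_neutralSet : IsCompact (SGA3x.neutralSet G) := by
  haveI : IsLocallyNoetherian (Spec (CommRingCat.of k)) := inferInstance
  obtain ⟨W, hW, hsub⟩ := TauSet.exists_compact_open_comp0 G (IsLocalRing.closedPoint k)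
  refine hW.of_isClosed_subset (isClosed_neutralSet G) fun v hv => hsub ?_
  rw [GrpDim.neutralSet_iff] at hv
  rwa [show G.hom v = IsLocalRing.closedPoint k from Subsingleton.elim (α := PrimeSpectrum k) _ _] at hv

theorem image_subset_neutralSet (φ : G ⟶ G)
    (h : φ.left (ptk G (1 : 𝟙_ (Over (Spec (CommRingCat.of k))) ⟶ G)) ∈ SGA3x.neutralSet G) :
    φ.left '' SGA3x.neutralSet G ⊆ SGA3x.neutralSet G := by
  have hc : _root_.IsPreconnected (φ.left '' SGA3x.neutralSet G) :=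
    (isIrreducible_neutralSet G).isConnected.isPreconnected.image _ φ.left.continuous.continuousOn
  rw [neutralSet_eq] at h hc ⊢
  exact (hc.subset_connectedComponent ⟨_, mem_connectedComponent, rfl⟩).trans (connectedComponent_eq h).ge

theorem pw_image (m : ℕ) : (pw G m).left '' SGA3x.neutralSet G ⊆ SGA3x.neutralSet G :=
  image_subset_neutralSet G _ (by rw [← ptk_pow, one_pow]; exact one_mem G)

theorem image_pw_mul (m n : ℕ) :
    (pw G (m * n)).left '' SGA3x.neutralSet G ⊆ (pw G m).left '' SGA3x.neutralSet G := by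
  rintro _ ⟨v, hv, rfl⟩
  refine ⟨(pw G n).left v, pw_image G n ⟨v, hv, rfl⟩, ?_⟩
  rw [← Scheme.Hom.comp_apply, ← Over.comp_left, comp_pw]
  rw [pw, pw, ← pow_mul, mul_comm]

/-- translation -/
def tr (a : 𝟙_ (Over (Spec (CommRingCat.of k))) ⟶ G) : G ⟶ G := (toUnit G ≫ a) * 𝟙 G

theorem ptk_tr (a b : 𝟙_ (Over (Spec (CommRingCat.of k))) ⟶ G) : (tr G a).left (ptk G b) = ptk G (a * b) := by
  have h : b ≫ tr G a = a * b := by
    rw [tr, MonObj.comp_mul, Category.comp_id, ← Category.assoc,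
      show b ≫ toUnit G = 𝟙 _ from toUnit_unique _ _, Category.id_comp]
  rw [← h]
  rfl

theorem tr_pw [IsCommMonObj G] (a : 𝟙_ (Over (Spec (CommRingCat.of k))) ⟶ G) (m : ℕ) :
    tr G a ≫ pw G m = pw G m ≫ tr G (a ^ m) := by
  rw [comp_pw, tr, tr, MonObj.comp_mul, Category.comp_id, ← Category.assoc,
    show pw G m ≫ toUnit G = toUnit G from toUnit_unique _ _, mul_pow]
  congr 1
  rw [← comp_pw, Category.assoc, comp_pw]

/-- Chevalley. -/
theorem isLocallyConstructible_pw (m : ℕ) (ho : IsOpen (SGA3x.neutralSet G)) :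
    IsLocallyConstructible ((pw G m).left '' SGA3x.neutralSet G) := by
  haveI : IsLocallyNoetherian G.left := LocallyOfFiniteType.isLocallyNoetherian G.hom
  let U : G.left.Opens := ⟨SGA3x.neutralSet G, ho⟩
  haveI : CompactSpace ↥(U : Scheme.{u}) := isCompact_iff_compactSpace.1 (isCompact_neutralSet G)
  haveI : AlgebraicGeometry.IsNoetherian (U : Scheme.{u}) := ⟨⟩
  let f := U.ι ≫ (pw G m).left
  haveI : LocallyOfFiniteType (f ≫ G.hom) := by
    rw [Category.assoc, Over.w]; infer_instance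
  haveI : LocallyOfFiniteType f := locallyOfFiniteType_of_comp f G.hom
  haveI : LocallyOfFinitePresentation f := InfLift.lfp_of_lft f
  haveI : QuasiCompact f := ⟨fun _ _ _ => NoetherianSpace.isCompact _⟩
  have h := f.isLocallyConstructible_image IsLocallyConstructible.univ
  have e : ⇑f '' Set.univ = (pw G m).left '' SGA3x.neutralSet G := by
    rw [Set.image_univ]
    change Set.range ((pw G m).left ∘ U.ι) = _
    rw [Set.range_comp, U.range_ι]
    rfl
  rwa [e] at h

variable [IsAlgClosed k] [IsCommMonObj G]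

theorem exists_pt_mem {A : Set G.left} (hA : IsLocallyClosed A) (hne : A.Nonempty) :
    ∃ a : 𝟙_ (Over (Spec (CommRingCat.of k))) ⟶ G, ptk G a ∈ A := by
  haveI : JacobsonSpace G.left := LocallyOfFiniteType.jacobsonSpace G.hom
  obtain ⟨z, hzA, hz⟩ := nonempty_inter_closedPoints hne hA
  obtain ⟨a, ha⟩ := GrpAct.exists_pt_of_closed (Z := G) hz
  exact ⟨a, by rw [ptk, ha]; exact hzA⟩

omit [IsCommMonObj G] in
theorem isClosed_ptk (a : 𝟙_ (Over (Spec (CommRingCat.of k))) ⟶ G) : IsClosed ({ptk G a} : Set G.left) :=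
  (pointEquivClosedPoint G.hom ⟨a.left, Over.w a⟩).2

/-- The powers of neutral points stabilise. -/
theorem exists_pow_stable (ho : IsOpen (SGA3x.neutralSet G)) (n : ℕ) :
    ∃ j : ℕ, ∀ a : 𝟙_ (Over (Spec (CommRingCat.of k))) ⟶ G, ptk G a ∈ SGA3x.neutralSet G →
      ∃ b₁ b₂ : 𝟙_ (Over (Spec (CommRingCat.of k))) ⟶ G, ptk G b₁ ∈ SGA3x.neutralSet G ∧
        ptk G b₂ ∈ SGA3x.neutralSet G ∧ a ^ n ^ j * b₁ ^ n ^ (j + 1) = b₂ ^ n ^ (j + 1) := by
  haveI : IsLocallyNoetherian G.left := LocallyOfFiniteType.isLocallyNoetherian G.hom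
  let U : G.left.Opens := ⟨SGA3x.neutralSet G, ho⟩
  haveI : CompactSpace ↥(U : Scheme.{u}) := isCompact_iff_compactSpace.1 (isCompact_neutralSet G)
  haveI : AlgebraicGeometry.IsNoetherian (U : Scheme.{u}) := ⟨⟩
  haveI : NoetherianSpace ↥(U : Scheme.{u}) := inferInstance
  let A : ℕ → Set G.left := fun j => (pw G (n ^ j)).left '' SGA3x.neutralSet G
  have hsucc : ∀ j, A (j + 1) ⊆ A j := fun j => by
    show (pw G (n ^ (j + 1))).left '' _ ⊆ _
    rw [pow_succ]
    exact image_pw_mul G _ _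
  have hclN : ∀ j, closure (A j) ⊆ SGA3x.neutralSet G := fun j =>
    closure_minimal (pw_image G _) (isClosed_neutralSet G)
  let C : ℕ → Closeds ↥(U : Scheme.{u}) := fun j =>
    ⟨U.ι ⁻¹' closure (A j), isClosed_closure.preimage U.ι.continuous⟩
  obtain ⟨_, ⟨j, rfl⟩, hmin⟩ := (wellFounded_lt : WellFounded ((· < ·) : Closeds ↥(U : Scheme.{u}) → _ → Prop)).has_min
    (Set.range C) ⟨_, ⟨0, rfl⟩⟩
  have hcl : closure (A j) = closure (A (j + 1)) := by
    refine le_antisymm (fun v hv => ?_) (closure_mono (hsucc j))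
    obtain ⟨v', rfl⟩ : v ∈ Set.range U.ι := by rw [U.range_ι]; exact hclN j hv
    have hle : C (j + 1) ≤ C j := fun x hx => closure_mono (hsucc j) hx
    exact (hle.eq_of_not_lt (hmin _ ⟨j + 1, rfl⟩)).ge hv
  refine ⟨j, fun a ha => ?_⟩
  have hirr : IsIrreducible (closure (A j)) :=
    ((isIrreducible_neutralSet G).image _ (pw G (n ^ j)).left.continuous.continuousOn).closure
  obtain ⟨V, -, hV, hVA, hsub⟩ := GrpField.exists_isOpen_inter_closure_subset
    (isLocallyConstructible_pw G (n ^ (j + 1)) ho) isOpen_univ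
    ⟨(pw G (n ^ (j + 1))).left (ptk G 1), trivial, ⟨_, one_mem G, rfl⟩⟩
  change (V ∩ A (j + 1)).Nonempty at hVA
  change closure (A (j + 1)) ∩ V ⊆ A (j + 1) at hsub
  rw [← hcl] at hsub
  let x := a ^ n ^ j
  let τ : G.left → G.left := (tr G x).left
  have hτA : ∀ v ∈ A j, τ v ∈ A j := by
    rintro _ ⟨v, hv, rfl⟩
    refine ⟨(tr G a).left v, image_subset_neutralSet G (tr G a) (by rw [ptk_tr, _root_.mul_one]; exact ha) ⟨v, hv, rfl⟩, ?_⟩
    show (pw G (n ^ j)).left ((tr G a).left v) = (tr G x).left ((pw G (n ^ j)).left v)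
    rw [← Scheme.Hom.comp_apply, ← Over.comp_left, tr_pw, Over.comp_left, Scheme.Hom.comp_apply]
  have hτ : ∀ v ∈ closure (A j), τ v ∈ closure (A j) := fun v hv =>
    map_mem_closure (tr G x).left.continuous hv hτA
  have hne1 : (closure (A j) ∩ V).Nonempty := by
    obtain ⟨v, hvV, hvA⟩ := hVA
    exact ⟨v, subset_closure (hsucc j hvA), hvV⟩
  have hne2 : (closure (A j) ∩ τ ⁻¹' V).Nonempty := by
    obtain ⟨v, hvZ, hvV⟩ := hne1
    have hinv : x⁻¹ = a⁻¹ ^ n ^ j := (inv_pow _ _).symm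
    have ha' : ptk G a⁻¹ ∈ SGA3x.neutralSet G := (TauSet.neutralSub G (q := 𝟙 _)).inv_mem (x := a) ha
    refine ⟨(tr G x⁻¹).left v, map_mem_closure (tr G x⁻¹).left.continuous hvZ ?_, ?_⟩
    · rintro _ ⟨w, hw, rfl⟩
      refine ⟨(tr G a⁻¹).left w,
        image_subset_neutralSet G (tr G a⁻¹) (by rw [ptk_tr, _root_.mul_one]; exact ha') ⟨w, hw, rfl⟩, ?_⟩
      show (pw G (n ^ j)).left ((tr G a⁻¹).left w) = (tr G x⁻¹).left ((pw G (n ^ j)).left w)
      rw [hinv, ← Scheme.Hom.comp_apply, ← Over.comp_left, tr_pw, Over.comp_left, Scheme.Hom.comp_apply]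
    · show (tr G x).left ((tr G x⁻¹).left v) ∈ V
      have h : tr G x⁻¹ ≫ tr G x = 𝟙 G := by
        simp only [tr]
        rw [MonObj.comp_mul, Category.comp_id, ← Category.assoc,
          show ((toUnit G ≫ x⁻¹) * 𝟙 G : G ⟶ G) ≫ toUnit G = toUnit G from toUnit_unique _ _,
          ← _root_.mul_assoc, ← MonObj.comp_mul, mul_inv_cancel, MonObj.comp_one, _root_.one_mul]
      rw [← Scheme.Hom.comp_apply, ← Over.comp_left, h]
      exact hvV
  have hne : (closure (A j) ∩ (V ∩ τ ⁻¹' V)).Nonempty :=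
    hirr.2 _ _ hV (hV.preimage (tr G x).left.continuous) hne1 hne2
  obtain ⟨y, hyZ, hyV, hyτ⟩ := exists_pt_mem G
    (isClosed_closure.isLocallyClosed.inter (hV.inter (hV.preimage (tr G x).left.continuous)).isLocallyClosed) hne
  have hlift : ∀ c : 𝟙_ (Over (Spec (CommRingCat.of k))) ⟶ G, ptk G c ∈ A (j + 1) →
      ∃ b, ptk G b ∈ SGA3x.neutralSet G ∧ c = b ^ n ^ (j + 1) := by
    rintro c ⟨w, hw, hwc⟩
    obtain ⟨b, hbN, hb⟩ := exists_pt_mem G (A := SGA3x.neutralSet G ∩ (pw G (n ^ (j + 1))).left ⁻¹' {ptk G c})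
      (ho.isLocallyClosed.inter ((isClosed_ptk G c).preimage (pw G (n ^ (j + 1))).left.continuous).isLocallyClosed)
      ⟨w, hw, hwc⟩
    refine ⟨b, hbN, Over.OverMorphism.ext (ext_of_apply_closedPoint_eq G.hom (Over.w c) (Over.w (b ^ n ^ (j + 1))) ?_)⟩
    rw [Set.mem_preimage, Set.mem_singleton_iff, ← ptk_pow] at hb
    exact hb.symm
  obtain ⟨b₁, hb₁, rfl⟩ := hlift y (hsub ⟨hyZ, hyV⟩)
  obtain ⟨b₂, hb₂, h₂⟩ := hlift (x * b₁ ^ n ^ (j + 1)) (hsub ⟨by rw [← ptk_tr]; exact hτ _ hyZ, by rw [← ptk_tr]; exact hyτ⟩)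
  exact ⟨b₁, b₂, hb₁, hb₂, h₂⟩

/-- Torsion surjects onto the component group. -/
theorem exists_torsion {G0 : Over (Spec (CommRingCat.of k))} [GrpObj G0] (i : G0 ⟶ G) [IsMonHom i]
    (hi : AutSch.IsIdComp i)
    (g : 𝟙_ (Over (Spec (CommRingCat.of k))) ⟶ G) (n : ℕ) (hn : 0 < n) (hg : g ^ n ∈ AutSch.ptsRange i) :
    ∃ t : 𝟙_ (Over (Spec (CommRingCat.of k))) ⟶ G, IsOfFinOrder t ∧ t⁻¹ * g ∈ AutSch.ptsRange i := by
  obtain ⟨-, hoi, hrange⟩ := hi
  have hmem : ∀ c : 𝟙_ (Over (Spec (CommRingCat.of k))) ⟶ G, c ∈ AutSch.ptsRange i ↔ ptk G c ∈ SGA3x.neutralSet G := by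
    intro c
    rw [AutSch.mem_ptsRange_iff, ← hrange]
    refine ⟨?_, fun h => ?_⟩
    · rintro ⟨g0, rfl⟩
      exact ⟨g0.left (IsLocalRing.closedPoint k), rfl⟩
    · have hr : Set.range c.left ⊆ Set.range i.left := by
        rintro _ ⟨t, rfl⟩
        rw [show t = IsLocalRing.closedPoint k from Subsingleton.elim (α := PrimeSpectrum k) _ _]
        exact h
      refine ⟨Over.homMk (IsOpenImmersion.lift i.left c.left hr) ?_, Over.OverMorphism.ext (IsOpenImmersion.lift_fac _ _ hr)⟩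
      rw [← Over.w i, IsOpenImmersion.lift_fac_assoc, Over.w c]
  have ho : IsOpen (SGA3x.neutralSet G) := hrange ▸ i.left.isOpenEmbedding.isOpen_range
  obtain ⟨j, hj⟩ := exists_pow_stable G ho n
  obtain ⟨b₁, b₂, hb₁, hb₂, hb⟩ := hj (g ^ n) ((hmem _).1 hg)
  rw [← hmem] at hb₁ hb₂
  let h := b₂ * b₁⁻¹
  have hh : h ∈ AutSch.ptsRange i := mul_mem hb₂ (inv_mem hb₁)
  refine ⟨g * h⁻¹, isOfFinOrder_iff_pow_eq_one.2 ⟨n ^ (j + 1), pow_pos hn _, ?_⟩, ?_⟩
  · rw [← pow_mul, ← pow_succ'] at hb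
    simp only [h]
    rw [mul_pow, inv_pow, mul_inv_eq_one, mul_pow, inv_pow, ← hb, mul_inv_cancel_right]
  · rw [mul_inv_rev, inv_inv, inv_mul_cancel_right]
    exact hh

end Groth.Agent.CompTors
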